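import Groth.Agent.SepCount.Main
import Groth.Agent.S2771
import Groth.Agent.ZetaLib.Points
import Groth.Agent.CycLib.NormMap
import Groth.Agent.EtNormal.Basic
import Groth.Agent.FEtCat.NormalizationGeneric

/-!
# The normalization in a finite extension is finite étale where a geometric fibre is as big as possible
-/

set_option autoImplicit false
set_option backward.isDefEq.respectTransparency false
set_option maxHeartbeats 800000

universe u

open AlgebraicGeometry CategoryTheory CategoryTheory.Limits TopologicalSpace Opposite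
open Groth.Agent.Wt.GeomPts

namespace Groth.Agent.NormCount

/-- The degree of a field extension as a residue degree. -/
theorem residueDegree_specMap {K L : Type u} [Field K] [Field L] [Algebra K L]
    (y : Spec (CommRingCat.of L)) :
    (Spec.map (CommRingCat.ofHom (algebraMap K L))).residueDegree y = Module.finrank K L := by
  let g := Spec.map (CommRingCat.ofHom (algebraMap K L))
  refine (ZetaLib.residueDegree_eq_finrank g y).trans ?_
  letI := (Weil.structMap g y).toAlgebra
  let σ := Weil.structMap (𝟙 (Spec (CommRingCat.of L))) y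
  let e : L ≃+* (Spec (CommRingCat.of L)).residueField y :=
    RingEquiv.ofBijective σ ⟨σ.injective, Weil.structMap_id_surjective y⟩
  refine (Algebra.finrank_eq_of_equiv_equiv (RingEquiv.refl K) e ?_).symm
  ext a
  have h0 : (Scheme.ΓSpecIso (CommRingCat.of K)).inv ≫ g.appTop =
      CommRingCat.ofHom (algebraMap K L) ≫ (Scheme.ΓSpecIso (CommRingCat.of L)).inv :=
    (Scheme.ΓSpecIso_inv_naturality _).symm
  show Weil.structMap g y a = σ (algebraMap K L a)
  simp [Weil.structMap, σ]
  exact congrArg ((Spec (CommRingCat.of L)).Γevaluation y).hom (congrArg (fun k => k.hom a) h0)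

theorem main {X : Scheme.{u}} [IsIntegral X] (hX : Pi1.IsNormalScheme X)
    (L : Type u) [Field L] [Algebra X.functionField L] [FiniteDimensional X.functionField L]
    (g : Spec (CommRingCat.of L) ⟶ X) [QuasiCompact g] [QuasiSeparated g]
    (hg : g = Spec.map (CommRingCat.ofHom (algebraMap X.functionField L)) ≫ X.fromSpecStalk (genericPoint X))
    (Ω : Type u) [Field Ω] [IsAlgClosed Ω] (ξ : Spec (CommRingCat.of Ω) ⟶ X)
    (c : Fin (Module.finrank X.functionField L) ↪ GeomFib g.fromNormalization ξ) :
    ∃ (T : Scheme.{u}) (_ : IsIntegral T) (f : T ⟶ X) (_ : IsAffine T) (q : Spec (CommRingCat.of L) ⟶ T)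
      (_ : IsPreimmersion q) (V : X.Opens),
      q ≫ f = g ∧ q default = genericPoint T ∧ pt ξ ∈ V ∧ IsFinite (f ∣_ V) ∧ Etale (f ∣_ V) := by
  classical
  let N := g.normalization
  let ν := g.fromNormalization
  let p : N := g.toNormalization default
  have hgdef : g default = genericPoint X := by
    rw [hg, Scheme.Hom.comp_apply]
    have h1 : ∀ z : Spec (X.presheaf.stalk (genericPoint X)), X.fromSpecStalk (genericPoint X) z = genericPoint X :=
      fun z => by
        have hz : z = IsLocalRing.closedPoint _ := Subsingleton.elim (h := (inferInstanceAs (Subsingleton (PrimeSpectrum X.functionField)))) _ _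
        rw [hz, Scheme.fromSpecStalk_closedPoint]
    exact h1 _
  have hp : p = genericPoint N := by
    have hd : DenseRange g.toNormalization := g.toNormalization.denseRange
    have hr : Set.range g.toNormalization = {p} := by
      ext z
      exact ⟨fun ⟨w, hw⟩ => hw ▸ congrArg g.toNormalization (Subsingleton.elim _ _), fun h => ⟨default, h.symm⟩⟩
    have h2 : p ⤳ genericPoint N := by
      rw [specializes_iff_mem_closure, ← hr, hd.closure_range]
      trivial
    exact h2.antisymm (genericPoint_specializes p) |>.eq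
  obtain ⟨_, ⟨U, hU, rfl⟩, hxU, -⟩ := X.isBasis_affineOpens.exists_subset_of_mem_open
    (Set.mem_univ (pt ξ)) isOpen_univ
  have hW : IsAffineOpen (ν ⁻¹ᵁ U) := hU.preimage ν
  have hpW : p ∈ ν ⁻¹ᵁ U := by
    show ν (g.toNormalization default) ∈ U
    rw [← Scheme.Hom.comp_apply, g.toNormalization_fromNormalization, hgdef]
    exact (genericPoint_specializes _).mem_open U.2 hxU
  haveI : Nonempty ↥(ν ⁻¹ᵁ U) := ⟨⟨p, hpW⟩⟩
  haveI : IsIntegral N := inferInstanceAs (IsIntegral g.normalization)
  let B : Type u := Γ(N, ν ⁻¹ᵁ U)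
  let A : Type u := Γ(X, U)
  letI : Algebra A B := (ν.app U).hom.toAlgebra
  haveI : Algebra.IsIntegral A B := ⟨IsIntegralHom.isIntegral_app ν U hU⟩
  have hlift : ∀ η : GeomFib ν ξ, ∃ ψ : CommRingCat.of B ⟶ CommRingCat.of Ω, Spec.map ψ ≫ hW.fromSpec = η.1 := by
    intro η
    have hr : Set.range η.1 ⊆ Set.range hW.fromSpec := by
      rintro _ ⟨w, rfl⟩
      rw [hW.range_fromSpec]
      show ν (η.1 w) ∈ U
      rw [← Scheme.Hom.comp_apply, η.2, eq_pt ξ w]
      exact hxU
    refine ⟨Spec.preimage (IsOpenImmersion.lift hW.fromSpec η.1 hr), ?_⟩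
    rw [Spec.map_preimage, IsOpenImmersion.lift_fac]
  choose ψ hψ using hlift
  have hsep : ∀ i j, i ≠ j → ∃ b : B, (ψ (c i)).hom b ≠ (ψ (c j)).hom b := by
    intro i j hij
    by_contra h
    simp only [not_exists, not_not] at h
    refine hij (c.injective (Subtype.ext ?_))
    rw [← hψ (c i), ← hψ (c j), CommRingCat.hom_ext (RingHom.ext h)]
  choose! b hb using hsep
  let s : Set B := Set.range fun ij : Fin _ × Fin _ => b ij.1 ij.2
  let B' : Subalgebra A B := Algebra.adjoin A s
  haveI : Module.Finite A B' := Module.Finite.iff_fg.mpr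
    (fg_adjoin_of_finite (Set.finite_range _) fun x _ => Algebra.IsIntegral.isIntegral x)
  let T := Spec (CommRingCat.of B')
  let incl : CommRingCat.of B' ⟶ CommRingCat.of B := CommRingCat.ofHom B'.val.toRingHom
  let t : T ⟶ Spec (CommRingCat.of A) := Spec.map (CommRingCat.ofHom (algebraMap A B'))
  haveI : IsFinite t := (IsFinite.SpecMap_iff _).mpr (RingHom.finite_algebraMap.mpr inferInstance)
  let f : T ⟶ X := t ≫ hU.fromSpec
  haveI : LocallyQuasiFinite f := inferInstanceAs (LocallyQuasiFinite (t ≫ hU.fromSpec))
  haveI : LocallyOfFiniteType f := inferInstanceAs (LocallyOfFiniteType (t ≫ hU.fromSpec))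
  haveI : IsSeparated f := inferInstance
  have hsq : Spec.map incl ≫ f = hW.fromSpec ≫ ν := by
    rw [← IsAffineOpen.SpecMap_appLE_fromSpec ν hU hW le_rfl, ← Category.assoc, ← Spec.map_comp]
    congr 2
    ext a
    rw [← Scheme.Hom.app_eq_appLE]
    rfl
  have hqr : Set.range g.toNormalization ⊆ Set.range hW.fromSpec := by
    rintro _ ⟨w, rfl⟩
    rw [hW.range_fromSpec, Subsingleton.elim w default]
    exact hpW
  let q₀ := IsOpenImmersion.lift hW.fromSpec g.toNormalization hqr
  let q : Spec (CommRingCat.of L) ⟶ T := q₀ ≫ Spec.map incl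
  have hq : q ≫ f = g := by
    rw [Category.assoc, hsq, ← Category.assoc, IsOpenImmersion.lift_fac, g.toNormalization_fromNormalization]
  haveI : Nonempty (ν ⁻¹ᵁ U).toScheme := ⟨⟨p, hpW⟩⟩
  haveI : IsDomain B := @IsIntegral.component_integral N _ (ν ⁻¹ᵁ U) ‹_›
  haveI : IsDomain B' := inferInstance
  haveI hTint : IsIntegral T := inferInstanceAs (IsIntegral (Spec (CommRingCat.of B')))
  have hqgen : q default = genericPoint T := by
    haveI : IsDomain (CommRingCat.of B) := ‹IsDomain B›
    haveI : IsIntegral (Spec (CommRingCat.of B)) := inferInstance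
    have hq₀ : q₀ default = genericPoint (Spec (CommRingCat.of B)) := by
      refine hW.fromSpec.isOpenEmbedding.injective ?_
      rw [← Scheme.Hom.comp_apply, IsOpenImmersion.lift_fac]
      refine hp.trans ?_
      exact (genericPoint_eq_of_isOpenImmersion hW.fromSpec).symm
    show Spec.map incl (q₀ default) = _
    rw [hq₀, genericPoint_eq_bot_of_affine, genericPoint_eq_bot_of_affine]
    refine PrimeSpectrum.ext ?_
    show Ideal.comap incl.hom ⊥ = ⊥
    exact Ideal.comap_bot_of_injective _ Subtype.val_injective
  have hTgen : f (genericPoint T) = genericPoint X := by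
    rw [← hqgen, ← Scheme.Hom.comp_apply, hq, hgdef]
  have hdom : ∀ Z ∈ irreducibleComponents ↥T, genericPoint X ∈ f.base '' Z := by
    intro Z hZ
    rw [irreducibleComponents_eq_singleton] at hZ
    exact ⟨genericPoint T, (hZ : Z = Set.univ) ▸ trivial, hTgen⟩
  haveI : QuasiCompact t := inferInstance
  have hfinp : ∀ z, (f ⁻¹' {z}).Finite := by
    intro z
    by_cases hz : z ∈ Set.range hU.fromSpec
    · obtain ⟨z', rfl⟩ := hz
      refine (t.finite_preimage_singleton z').subset fun w hw => ?_
      exact hU.fromSpec.isOpenEmbedding.injective hw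
    · convert Set.finite_empty
      exact Set.eq_empty_iff_forall_notMem.mpr fun w hw => hz ⟨t w, hw⟩
  let x := pt ξ
  haveI : Finite {u : T // f u = x} := (hfinp x).to_subtype
  haveI : Finite {u : T // f u = pt ξ} := (hfinp x).to_subtype
  haveI := finite_geomFib f ξ
  let η : Fin (Module.finrank X.functionField L) → GeomFib f ξ := fun i =>
    ⟨Spec.map (ψ (c i)) ≫ Spec.map incl, by rw [Category.assoc, hsq, reassoc_of% (hψ (c i))]; exact (c i).2⟩
  have hη : Function.Injective η := by
    intro i j h
    by_contra hij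
    have h1 : incl ≫ ψ (c i) = incl ≫ ψ (c j) := Spec.map_injective (by
      rw [Spec.map_comp, Spec.map_comp]; exact congrArg Subtype.val h)
    exact hb i j hij (congrArg (fun k => k.hom ⟨b i j, Algebra.subset_adjoin ⟨(i, j), rfl⟩⟩) h1)
  have hn : Module.finrank X.functionField L ≤ SepCount.sepSum f x := by
    rw [← SepCount.card_geomFib_eq_sepSum f ξ rfl]
    simpa using Nat.card_le_card_of_injective η hη
  have hqf : ∀ z, f.QuasiFiniteAt z := fun z => Scheme.Hom.quasiFiniteAt f z
  have hset : {z : T | f.base z = x ∧ f.QuasiFiniteAt z} = {z | f.base z = x} :=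
    Set.ext fun z => ⟨fun h => h.1, fun h => ⟨h, hqf z⟩⟩
  have hsum : SepCount.sepSum f x =
      ∑ᶠ z ∈ {z : T | f.base z = x ∧ f.QuasiFiniteAt z}, EGA4loc.residueSepDegree f z := by
    rw [hset, ← finsum_set_coe_eq_finsum_mem]
    rfl
  have hfib : (hfinp (genericPoint X)).toFinset = {genericPoint T} := by
    ext z
    rw [Set.Finite.mem_toFinset, Finset.mem_singleton]
    refine ⟨fun hz => ?_, fun h => h ▸ hTgen⟩
    have hd := isDiscrete_iff_discreteTopology.mp (f.isDiscrete_preimage_singleton (genericPoint X))
    have h : (⟨genericPoint T, hTgen⟩ : f ⁻¹' {genericPoint X}) ⤳ ⟨z, hz⟩ :=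
      (subtype_specializes_iff _ _).mpr (genericPoint_specializes z)
    exact (congrArg Subtype.val h.eq).symm
  have hdeg : q.residueDegree default * f.residueDegree (genericPoint T) = Module.finrank X.functionField L := by
    rw [← hqgen, ← CycLib.residueDegree_comp, hq]
    subst hg
    rw [CycLib.residueDegree_comp, CycLib.residueDegree_closedImmersion (X.fromSpecStalk _), mul_one]
    exact residueDegree_specMap _
  have hnpos : 0 < Module.finrank X.functionField L := Module.finrank_pos
  have hxint : IsIntegrallyClosed (X.presheaf.stalk x) := (hX x).2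
  obtain ⟨h0, h1, h2⟩ := S2770.main f hdom (hfinp _) x (Comod.isGeomUnibranch_of_normal _)
  have h12 := h1.trans h2
  rw [← hsum] at h12
  have hd : ∑ z ∈ (hfinp (genericPoint X)).toFinset, EGA4loc.residueDegree f z = f.residueDegree (genericPoint T) := by
    rw [hfib, Finset.sum_singleton]
    rfl
  rw [hd] at h12
  have hdn : f.residueDegree (genericPoint T) ≤ Module.finrank X.functionField L := by
    rw [← hdeg]
    exact Nat.le_mul_of_pos_left _ (Nat.pos_of_ne_zero fun h => by rw [h, zero_mul] at hdeg; omega)
  have hfn : f.residueDegree (genericPoint T) = Module.finrank X.functionField L := le_antisymm hdn (hn.trans h12)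
  obtain ⟨V, hxV, hV₁, hV₂⟩ := (S2771.result f hdom (hfinp _) x hxint).mp ⟨h0, by
    rw [← hsum, hd]; exact le_antisymm h12 (hfn ▸ hn)⟩
  have hq1 : q.residueDegree default = 1 := by
    rw [hfn] at hdeg
    exact Nat.eq_of_mul_eq_mul_right hnpos (by rw [one_mul]; exact hdeg)
  haveI : IsPreimmersion q := by
    have hres : Function.Surjective (q.residueFieldMap default).hom := by
      let d₀ : Spec (CommRingCat.of L) := default
      letI := (q.residueFieldMap d₀).hom.toAlgebra
      have h1 : Module.finrank (T.residueField (q d₀)) ((Spec (CommRingCat.of L)).residueField d₀) = 1 := hq1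
      haveI : Module.Finite (T.residueField (q d₀)) ((Spec (CommRingCat.of L)).residueField d₀) :=
        Module.finite_of_finrank_eq_succ h1
      intro a
      obtain ⟨c₀, hc₀⟩ := (finrank_eq_one_iff_of_nonzero' (1 : (Spec (CommRingCat.of L)).residueField d₀) one_ne_zero).mp h1 a
      exact ⟨c₀, by rw [← hc₀, Algebra.smul_def, mul_one]; rfl⟩
    refine { isEmbedding := .of_subsingleton _, stalkMap_surjective := fun z => ?_ }
    obtain rfl : z = default := Subsingleton.elim _ _
    intro a
    have hb' := SepCount.residue_bijective (X := Spec (CommRingCat.of L)) default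
      (SepCount.isField_genericPoint (Subsingleton.elim _ _))
    obtain ⟨w, hw⟩ := hres ((Spec (CommRingCat.of L)).residue default a)
    obtain ⟨r, rfl⟩ := T.residue_surjective _ w
    refine ⟨r, hb'.1 ?_⟩
    refine Eq.trans ?_ hw
    exact (congrArg (fun k => k.hom r) (Scheme.residue_residueFieldMap q default)).symm
  exact ⟨T, hTint, f, inferInstance, q, ‹_›, V, hq, hqgen, hxV, hV₁, hV₂⟩

end Groth.Agent.NormCount
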